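import Groth.Agent.Curves.K363.RigidP1
import Groth.Prelude.Def_ModFun

/-!
# The point is a coarse moduli space of curves of genus zero
-/

set_option autoImplicit false
set_option linter.style.haveILetI false
set_option linter.unusedSectionVars false
universe u

open CategoryTheory CategoryTheory.Limits AlgebraicGeometry

namespace K363.CoarseZero

variable {k : Type u} [Field k] [IsAlgClosed k]

section trunc

variable {T : Scheme.{u}} (q : T ⟶ Spec (CommRingCat.of k)) (t : T)

/-- the structure map of the local ring -/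
noncomputable def st : CommRingCat.of k ⟶ T.presheaf.stalk t := Spec.preimage (T.fromSpecStalk t ≫ q)

theorem Spec_st : Spec.map (st q t) = T.fromSpecStalk t ≫ q := Spec.map_preimage _

variable [LocallyOfFiniteType q] (ht : IsClosed ({t} : Set T))

include ht in
theorem st_residue : st q t ≫ T.residue t = (residueFieldIsoBase q t ht).inv := by
  apply Spec.map_injective
  rw [SpecMap_residueFieldIsoBase_inv, Spec.map_comp, Spec_st, ← Category.assoc]
  rfl

include ht in
/-- The infinitesimal neighbourhoods of a closed point are finite over the ground field. -/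
theorem finite_trunc (n : ℕ) : letI : Algebra k (T.presheaf.stalk t) := (st q t).hom.toAlgebra
    Module.Finite k (T.presheaf.stalk t ⧸ IsLocalRing.maximalIdeal (T.presheaf.stalk t) ^ n) := by
  letI : Algebra k (T.presheaf.stalk t) := (st q t).hom.toAlgebra
  have : IsLocallyNoetherian T := LocallyOfFiniteType.isLocallyNoetherian q
  have hN : IsNoetherianRing (T.presheaf.stalk t) := inferInstance
  refine K728.PiN.finite_quotient_pow (k := k) (R := T.presheaf.stalk t) ?_ n
  intro z
  obtain ⟨c, hc⟩ := ((ConcreteCategory.isIso_iff_bijective (residueFieldIsoBase q t ht).inv).1 inferInstance).2 z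
  refine ⟨c, ?_⟩
  rw [← hc, ← st_residue q t ht]
  rfl

theorem Spec_algebraMap (n : ℕ) : letI : Algebra k (T.presheaf.stalk t) := (st q t).hom.toAlgebra
    Spec.map (CommRingCat.ofHom (algebraMap k (T.presheaf.stalk t ⧸
      IsLocalRing.maximalIdeal (T.presheaf.stalk t) ^ (n + 1)))) = K686.RigSec.tn T t n ≫ q := by
  letI : Algebra k (T.presheaf.stalk t) := (st q t).hom.toAlgebra
  have h1 : CommRingCat.ofHom (algebraMap k (T.presheaf.stalk t ⧸
      IsLocalRing.maximalIdeal (T.presheaf.stalk t) ^ (n + 1))) = st q t ≫ CommRingCat.ofHom (Ideal.Quotient.mk _) := rfl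
  refine (congrArg Spec.map h1).trans ((Spec.map_comp _ _).trans ?_)
  rw [Spec_st, K686.RigSec.tn, Category.assoc]
  rfl

include ht in
theorem isFinite_tn (n : ℕ) : IsFinite (K686.RigSec.tn T t n ≫ q) := by
  letI : Algebra k (T.presheaf.stalk t) := (st q t).hom.toAlgebra
  rw [← Spec_algebraMap]
  have := finite_trunc q t ht (n + 1)
  rw [IsFinite.SpecMap_iff]
  exact RingHom.finite_algebraMap.2 this

include ht in
/-- Families of curves of genus zero over the infinitesimal neighbourhoods of a closed point are constant. -/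
theorem exists_iso_trunc (n : ℕ) {C : Scheme.{u}} (p : C ⟶ Spec (CommRingCat.of (T.presheaf.stalk t ⧸
      IsLocalRing.maximalIdeal (T.presheaf.stalk t) ^ (n + 1)))) (h : ModFun.IsCurveOfGenus 0 p) :
    ∃ φ : C ≅ pullback (CohB1.ProjSpace.toSpec 1 k) (K686.RigSec.tn T t n ≫ q), φ.hom ≫ pullback.snd _ _ = p := by
  letI : Algebra k (T.presheaf.stalk t) := (st q t).hom.toAlgebra
  have : IsLocallyNoetherian T := LocallyOfFiniteType.isLocallyNoetherian q
  have hN : IsNoetherianRing (T.presheaf.stalk t) := inferInstance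
  obtain ⟨h1, h2, -⟩ := K686.RigSec.trunc (T.presheaf.stalk t) n
  let e : (T.presheaf.stalk t ⧸ IsLocalRing.maximalIdeal (T.presheaf.stalk t) ^ (n + 1)) →ₐ[k] k :=
    { toRingHom := (K686.RigSec.rn T t n ≫ (residueFieldIsoBase q t ht).hom).hom
      commutes' := fun c => by
        change ((st q t ≫ T.residue t) ≫ (residueFieldIsoBase q t ht).hom) c = c
        rw [st_residue q t ht, Iso.inv_hom_id]
        rfl }
  rw [← Spec_algebraMap]
  exact K363.RigidP1.exists_iso_artin _ e p h

end trunc

section main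

variable (N : Over (Spec (CommRingCat.of k)))
  (ψ : (ModFun.Mg (Spec (CommRingCat.of k)) 0).Hom
    (fun T : Over (Spec (CommRingCat.of k)) => LocallyOfFiniteType T.hom ∧ QuasiCompact T.hom) N)

/-- the standard family over the point -/
noncomputable def P₀ (k : Type u) [Field k] : (ModFun.Mg (Spec (CommRingCat.of k)) 0).Fam
    (Over.mk (𝟙 (Spec (CommRingCat.of k)))) :=
  (Over.mk (CohB1.ProjSpace.toSpec 1 k) : Over (Spec (CommRingCat.of k)))

theorem ok_P₀ : (ModFun.Mg (Spec (CommRingCat.of k)) 0).ok _ (P₀ k) :=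
  ⟨trivial, K995.P1Curve.isCurveOfGenus k⟩

theorem test_pt : LocallyOfFiniteType (Over.mk (𝟙 (Spec (CommRingCat.of k)))).hom ∧
    QuasiCompact (Over.mk (𝟙 (Spec (CommRingCat.of k)))).hom :=
  ⟨inferInstanceAs (LocallyOfFiniteType (𝟙 (Spec (CommRingCat.of k)))),
    inferInstanceAs (QuasiCompact (𝟙 (Spec (CommRingCat.of k))))⟩

theorem ok_pull {T T' : Over (Spec (CommRingCat.of k))} (g : T' ⟶ T)
    (x : (ModFun.Mg (Spec (CommRingCat.of k)) 0).Fam T) (hx : (ModFun.Mg (Spec (CommRingCat.of k)) 0).ok T x) :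
    (ModFun.Mg (Spec (CommRingCat.of k)) 0).ok T' ((ModFun.Mg (Spec (CommRingCat.of k)) 0).pull g x) :=
  ⟨trivial, K995.GenusField.isCurveOfGenus_of_isPullback (IsPullback.of_hasPullback _ _) hx.2⟩

/-- The value of `ψ` on an arbitrary family. -/
theorem app_eq (T : Over (Spec (CommRingCat.of k))) (x : (ModFun.Mg (Spec (CommRingCat.of k)) 0).Fam T)
    (hT : LocallyOfFiniteType T.hom ∧ QuasiCompact T.hom) (hx : (ModFun.Mg (Spec (CommRingCat.of k)) 0).ok T x)
    (s : T ⟶ Over.mk (𝟙 (Spec (CommRingCat.of k)))) :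
    ψ.app T x hT hx = s ≫ ψ.app _ (P₀ k) test_pt ok_P₀ := by
  obtain ⟨hT1, hT2⟩ := hT
  have : IsLocallyNoetherian T.left := LocallyOfFiniteType.isLocallyNoetherian T.hom
  have : CompactSpace T.left := QuasiCompact.compactSpace_of_compactSpace T.hom
  have hs : s.left = T.hom := by
    have := Over.w s
    rw [← this]
    exact (Category.comp_id _).symm
  apply Over.OverMorphism.ext
  apply K363.RigidP1.eq_of_trunc_closed
  intro t ht n
  let T' : Over (Spec (CommRingCat.of k)) := Over.mk (K686.RigSec.tn T.left t n ≫ T.hom)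
  let g : T' ⟶ T := Over.homMk (K686.RigSec.tn T.left t n) rfl
  have hfin : IsFinite T'.hom := isFinite_tn T.hom t ht n
  have hT' : LocallyOfFiniteType T'.hom ∧ QuasiCompact T'.hom := ⟨inferInstance, inferInstance⟩
  have h1 := ψ.natural g x ⟨hT1, hT2⟩ hT' hx (ok_pull g x hx)
  have h2 := ψ.natural (g ≫ s) (P₀ k) test_pt hT' ok_P₀ (ok_pull (g ≫ s) (P₀ k) ok_P₀)
  have h3 : ψ.app T' ((ModFun.Mg (Spec (CommRingCat.of k)) 0).pull g x) hT' (ok_pull g x hx) =
      ψ.app T' ((ModFun.Mg (Spec (CommRingCat.of k)) 0).pull (g ≫ s) (P₀ k)) hT'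
        (ok_pull (g ≫ s) (P₀ k) ok_P₀) := by
    apply ψ.resp
    obtain ⟨φ, hφ⟩ := exists_iso_trunc T.hom t ht n _ (ok_pull g x hx).2
    have hgs : (g ≫ s).left = K686.RigSec.tn T.left t n ≫ T.hom := by
      rw [Over.comp_left, hs]
      rfl
    change Nonempty ((Over.pullback g.left).obj x ≅ (Over.pullback (g ≫ s).left).obj (P₀ k))
    rw [hgs]
    exact ⟨Over.isoMk φ hφ⟩
  have h4 : g ≫ ψ.app T x ⟨hT1, hT2⟩ hx = (g ≫ s) ≫ ψ.app _ (P₀ k) test_pt ok_P₀ := by
    rw [← h1, ← h2, h3]
  have h5 := congrArg Over.Hom.left h4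
  simp only [Over.comp_left, Category.assoc] at h5
  exact h5

end main

end K363.CoarseZero
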