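import Groth.Agent.S16752
import Groth.Agent.S1026
import Groth.Agent.S1025
import Groth.Agent.S2431
import Groth.Agent.S4714
import Groth.Agent.S3022
import Groth.Agent.CurvesB.SubH1
import Groth.Agent.CurvesB.GenusLib
import Groth.Agent.Models.H74.CohSide
import Groth.Agent.Variety.K431.GeomGenFib
import Groth.Agent.PerfB.StructFlat

/-!
# Cohomology of the structure sheaf of the fibres of a flat proper morphism onto a curve
-/

set_option autoImplicit false
universe u

open CategoryTheory CategoryTheory.Limits AlgebraicGeometry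

namespace K363.FibChi

/-- A flat morphism to an irreducible scheme: the fibre over a closed non-generic point has smaller dimension
than the total space. -/
theorem dim_fiber_add_one_le {X S : Scheme.{u}} (π : X ⟶ S) [Flat π] [IrreducibleSpace S] (s : S)
    (hs : IsClosed ({s} : Set S)) (hne : s ≠ genericPoint S) :
    topologicalKrullDim (π.fiber s) + 1 ≤ topologicalKrullDim X := by
  have h1 : topologicalKrullDim (π.fiber s) = topologicalKrullDim (π ⁻¹' {s}) :=
    Groth.Agent.S3022.dim_fiber π s
  rw [h1]
  apply Groth.Agent.S4714.dim_add_one_le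
  · exact hs.preimage π.continuous
  · intro Z hZ hZs
    have hZirr : IsIrreducible Z := hZ.1
    have hZcl : IsClosed Z := isClosed_of_mem_irreducibleComponents Z hZ
    obtain ⟨ξ, hξ⟩ := QuasiSober.sober hZirr hZcl
    have hξZ : ξ ∈ Z := hξ.mem
    have h2 : π ξ = s := hZs hξZ
    have h3 : genericPoint S ⤳ π ξ := genericPoint_specializes _
    obtain ⟨ξ', h4, h5⟩ := Flat.generalizingMap π h3
    have h6 : Z ⊆ closure {ξ'} := by
      rw [← hξ.def]
      exact closure_minimal (Set.singleton_subset_iff.2 (specializes_iff_mem_closure.1 h4)) isClosed_closure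
    have h7 : closure {ξ'} ⊆ Z := hZ.2 isIrreducible_singleton.closure h6
    have h8 : ξ' ∈ Z := h7 (subset_closure rfl)
    have h9 : π ξ' = s := hZs h8
    exact hne (h9.symm.trans h5)

theorem isProper_fiberTo {X S : Scheme.{u}} (π : X ⟶ S) [IsProper π] (s : S) :
    IsProper (π.fiberToSpecResidueField s) :=
  inferInstanceAs (IsProper (pullback.snd π (S.fromSpecResidueField s)))

/-- Vanishing of the higher Betti numbers of a fibre of dimension at most one. -/
theorem betti_eq_zero {X S : Scheme.{u}} (π : X ⟶ S) [IsProper π] (s : S)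
    (hd : topologicalKrullDim (π.fiber s) ≤ 1) (i : ℕ) (hi : 2 ≤ i) :
    PerfAux.betti π (Coh.structureModule X) s i = 0 := by
  rw [Groth.Agent.S16752.betti_eq_hRank]
  have h1 : IsProper (π.fiberToSpecResidueField s) := isProper_fiberTo π s
  have : IsNoetherian (π.fiber s) :=
    @Groth.Agent.CurvesB.GenusLib.isNoetherian_of_proper (S.residueField s) _ _ (π.fiberToSpecResidueField s) h1
  have := Groth.Agent.CurvesB.SubH1.subsingleton_ge_two hd (Coh.structureModule (π.fiber s)) i hi
  let _ : (π.fiber s).Over (Spec (CommRingCat.of (S.residueField s))) := ⟨π.fiberToSpecResidueField s⟩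
  exact Module.finrank_zero_of_subsingleton

theorem betti_zero_pos {X S : Scheme.{u}} (π : X ⟶ S) [IsProper π] (s : S) [Nonempty (π.fiber s)] :
    0 < PerfAux.betti π (Coh.structureModule X) s 0 := by
  rw [Groth.Agent.S16752.betti_eq_hRank]
  have : IsProper (π.fiberToSpecResidueField s) := isProper_fiberTo π s
  exact Groth.Agent.S16752.hRank_pos (S.residueField s) (π.fiber s) (π.fiberToSpecResidueField s)

/-- `h⁰ = 1` for reduced connected fibres over points with algebraically closed residue field. -/
theorem betti_zero_eq_one {X S : Scheme.{u}} (π : X ⟶ S) [IsProper π] (s : S) [IsAlgClosed (S.residueField s)]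
    [IsReduced (π.fiber s)] [ConnectedSpace (π.fiber s)] :
    PerfAux.betti π (Coh.structureModule X) s 0 = 1 := by
  rw [Groth.Agent.S16752.betti_eq_hRank]
  let _ : (π.fiber s).Over (Spec (CommRingCat.of (S.residueField s))) := ⟨π.fiberToSpecResidueField s⟩
  have : IsProper ((π.fiber s) ↘ Spec (CommRingCat.of (S.residueField s))) := isProper_fiberTo π s
  exact Groth.Agent.Models.H74.CohSide.finrank_HH_zero_eq_one (S.residueField s)

theorem eulerChar_eq {X S : Scheme.{u}} (π : X ⟶ S) (F : X.Modules) (s : S)
    (h : ∀ i, 2 ≤ i → PerfAux.betti π F s i = 0) :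
    PerfAux.eulerChar π F s = (PerfAux.betti π F s 0 : ℤ) - PerfAux.betti π F s 1 := by
  rw [PerfAux.eulerChar, finsum_eq_sum_of_support_subset (s := Finset.range 2)]
  · simp [Finset.sum_range_succ, sub_eq_add_neg]
  · intro i hi
    rw [Finset.coe_range, Set.mem_Iio]
    by_contra hcon
    apply hi
    change (-1 : ℤ) ^ i * (PerfAux.betti π F s i : ℤ) = 0
    rw [h i (not_lt.1 hcon)]
    simp

/-- Semicontinuity at the generic point. -/
theorem betti_generic_le {X S : Scheme.{u}} (π : X ⟶ S) [IsProper π] [Flat π] [LocallyOfFinitePresentation π]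
    [IrreducibleSpace S] (s : S) (i : ℕ) :
    PerfAux.betti π (Coh.structureModule X) (genericPoint S) i ≤ PerfAux.betti π (Coh.structureModule X) s i := by
  have h := Groth.Agent.S1025.result π _ Groth.Agent.PerfB.StructFlat.isFP_structure
    (Groth.Agent.PerfB.StructFlat.isFlatOver_structure π) i (PerfAux.betti π (Coh.structureModule X) s i + 1)
  have h2 : genericPoint S ∈ {t : S | PerfAux.betti π (Coh.structureModule X) t i <
      PerfAux.betti π (Coh.structureModule X) s i + 1} :=
    (genericPoint_specializes s).mem_open h (Nat.lt_succ_self _)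
  exact Nat.lt_succ_iff.1 h2

/-- **Main statement.** -/
theorem main {X S : Scheme.{u}} (π : X ⟶ S) [IrreducibleSpace S] [IsLocallyNoetherian S]
    [IsProper π] [Flat π] (hdX : topologicalKrullDim X ≤ 2) (hO : ∀ U : S.Opens, Function.Bijective (π.app U))
    (s : S) (hs : IsClosed ({s} : Set S)) [IsAlgClosed (S.residueField s)] [IsReduced (π.fiber s)] :
    PerfAux.betti π (Coh.structureModule X) s 0 = 1 ∧
      PerfAux.betti π (Coh.structureModule X) s 1 =
        PerfAux.betti π (Coh.structureModule X) (genericPoint S) 1 := by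
  have hiso : ∀ U : S.Opens, IsIso (π.app U) := fun U => (ConcreteCategory.isIso_iff_bijective (π.app U)).2 (hO U)
  have hconn := (Groth.Agent.S2431.result π hiso).1
  have := hconn s
  have h0 : PerfAux.betti π (Coh.structureModule X) s 0 = 1 := betti_zero_eq_one π s
  refine ⟨h0, ?_⟩
  by_cases hne : s = genericPoint S
  · rw [← hne]
  have hlfp : LocallyOfFinitePresentation π := inferInstance
  have hd : topologicalKrullDim (π.fiber s) ≤ 1 := by
    have h := (dim_fiber_add_one_le π s hs hne).trans hdX
    revert h
    generalize topologicalKrullDim (π.fiber s) = d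
    induction d using WithBot.recBotCoe with
    | bot => intro _; exact bot_le
    | coe d =>
      intro h
      have h2 : d + 1 ≤ 1 + 1 := by
        have h3 : ((d + 1 : ℕ∞) : WithBot ℕ∞) ≤ ((2 : ℕ∞) : WithBot ℕ∞) := h
        have h4 : (2 : ℕ∞) = 1 + 1 := by norm_num
        rw [← h4]
        exact WithBot.coe_le_coe.1 h3
      have h3 : d ≤ 1 := (ENat.add_le_add_iff_right (by simp)).1 h2
      exact WithBot.coe_le_coe.2 h3
  have hs2 : ∀ i, 2 ≤ i → PerfAux.betti π (Coh.structureModule X) s i = 0 := betti_eq_zero π s hd
  have hη2 : ∀ i, 2 ≤ i → PerfAux.betti π (Coh.structureModule X) (genericPoint S) i = 0 := by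
    intro i hi
    have := betti_generic_le π s i
    rw [hs2 i hi] at this
    exact Nat.le_zero.1 this
  have hη0 : PerfAux.betti π (Coh.structureModule X) (genericPoint S) 0 = 1 := by
    have h1 := betti_generic_le π s 0
    have := hconn (genericPoint S)
    have h2 := betti_zero_pos π (genericPoint S)
    omega
  have hχ : PerfAux.eulerChar π (Coh.structureModule X) s =
      PerfAux.eulerChar π (Coh.structureModule X) (genericPoint S) :=
    (Groth.Agent.S1026.result π _ Groth.Agent.PerfB.StructFlat.isFP_structure
      (Groth.Agent.PerfB.StructFlat.isFlatOver_structure π)).apply_eq_of_preconnectedSpace _ _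
  rw [eulerChar_eq π _ s hs2, eulerChar_eq π _ (genericPoint S) hη2, h0, hη0] at hχ
  omega

end K363.FibChi
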