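import Groth.Agent.MiscA.WCPlaceRes
import Mathlib.NumberTheory.RamificationInertia.Valuation
import Mathlib.NumberTheory.RamificationInertia.Basic
import Mathlib.RingTheory.RamificationInertia.Ramification
import Mathlib.RingTheory.DedekindDomain.Different

/-!
# The fibres of a separating element of a function field over an algebraically closed field

* `exists_zero_div`: the zero divisor of `t` has degree `[K : k(t)]`;
* `exists_unram`: there is a place where `t - c` is a uniformizer;
* `exists_place`: both, in the form needed for S11480.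
-/

set_option autoImplicit false
set_option linter.deprecated false
set_option linter.style.haveILetI false
open WithZero IsDedekindDomain Polynomial
open Groth.Agent.Models.FFRR Groth.Agent.MiscA.WCPlace Groth.Agent.MiscA.WCPlaceCrv
  Groth.Agent.MiscA

noncomputable section

namespace K363.NodePlace

universe u

variable {k K : Type u} [Field k] [Field K] [Algebra k K]

open scoped IntermediateField.algebraAdjoinAdjoin

/-- `t - c` as an element of `k[t]`. -/
def lin (t : K) (c : k) : Algebra.adjoin k {t} :=
  ⟨t, Algebra.subset_adjoin rfl⟩ - algebraMap k _ c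

theorem coe_lin (t : K) (c : k) : ((lin t c : Algebra.adjoin k {t}) : K) = t - algebraMap k K c :=
  rfl

theorem prime_lin {t : K} (ht : Transcendental k t) (c : k) : Prime (lin t c) := by
  have h2 : Polynomial.algEquivOfTranscendental k t ht (X - C c) = lin t c := by
    apply Subtype.ext
    rw [coe_lin]
    simp
  rw [← h2]
  exact (MulEquiv.prime_iff (Polynomial.algEquivOfTranscendental k t ht).toMulEquiv).2
    (Polynomial.prime_X_sub_C c)

/-- The prime `(t - c)` of `k[t]`. -/
def vc {t : K} (ht : Transcendental k t) (c : k) :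
    HeightOneSpectrum (Algebra.adjoin k {t}) where
  asIdeal := Ideal.span {lin t c}
  isPrime := (Ideal.span_singleton_prime (prime_lin ht c).ne_zero).2 (prime_lin ht c)
  ne_bot := by simpa using (prime_lin ht c).ne_zero

/-- The integral closure of `k[t]`. -/
abbrev IC (k : Type u) {K : Type u} [Field k] [Field K] [Algebra k K] (t : K) :=
  integralClosure (Algebra.adjoin k {t}) K

theorem dedekind_R {t : K} (h : IsSep k K t) : IsDedekindDomain (Algebra.adjoin k {t}) := by
  have := isPrincipalIdealRing_adjoin h.tr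
  infer_instance

theorem dedekind_IC {t : K} (h : IsSep k K t) : IsDedekindDomain (IC k t) := by
  have := isPrincipalIdealRing_adjoin h.tr
  have := h.fin
  have := h.sep
  exact integralClosure.isDedekindDomain _ (IntermediateField.adjoin k {t}) K

theorem frac_IC {t : K} (h : IsSep k K t) : IsFractionRing (IC k t) K := by
  have := isPrincipalIdealRing_adjoin h.tr
  have := h.fin
  exact integralClosure.isFractionRing_of_finite_extension (IntermediateField.adjoin k {t}) K

theorem finite_IC {t : K} (h : IsSep k K t) : Module.Finite (Algebra.adjoin k {t}) (IC k t) := by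
  have := isPrincipalIdealRing_adjoin h.tr
  have := h.fin
  have := h.sep
  exact IsIntegralClosure.finite (Algebra.adjoin k {t}) (IntermediateField.adjoin k {t}) K _


/-- The place of a height one prime of the integral closure of `k[t]`. -/
def pl {t : K} (h : IsSep k K t) :
    letI := dedekind_IC h; letI := frac_IC h
    HeightOneSpectrum (IC k t) → Place k K := fun q =>
  letI := dedekind_IC h; letI := frac_IC h
  ⟨(q.valuation K).valuationSubring, by
    intro hq
    obtain ⟨π, hπ⟩ := q.valuation_exists_uniformizer K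
    have h3 : π⁻¹ ∈ (q.valuation K).valuationSubring := by
      rw [hq]
      exact ValuationSubring.mem_top _
    rw [Valuation.mem_valuationSubring_iff, map_inv₀, hπ, ← exp_neg, neg_neg, ← exp_zero,
      exp_le_exp] at h3
    omega, by
    intro c
    rw [Valuation.mem_valuationSubring_iff]
    exact q.valuation_le_one (algebraMap (Algebra.adjoin k {t}) (IC k t) (algebraMap k _ c))⟩

theorem val_pl {t : K} (h : IsSep k K t) (q : letI := dedekind_IC h; HeightOneSpectrum (IC k t)) :
    letI := dedekind_IC h; letI := frac_IC h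
    (pl h q).val = q.valuation K := by
  letI := dedekind_IC h; letI := frac_IC h
  exact h.val_eq_of (pl h q) (q.valuation_exists_uniformizer K) rfl

theorem exists_pl {t : K} (h : IsSep k K t) (P : Place k K) (ht : t ∈ P.1) :
    letI := dedekind_IC h
    ∃ q : HeightOneSpectrum (IC k t), pl h q = P := by
  letI := dedekind_IC h; letI := frac_IC h
  obtain ⟨q, hq⟩ := WCDedekind.exists_eq_valuationSubring (A := IC k t) P.1 P.2.1
    (fun a => mem_of_isIntegral P.1 (adjoin_le_of_mem P ht) (x := (a : K)) a.2)
  exact ⟨q, Place.ext hq⟩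

theorem pl_injective {t : K} (h : IsSep k K t) : Function.Injective (pl h) := by
  letI := dedekind_IC h; letI := frac_IC h
  intro q q' hqq
  have h1 : q.valuation K = q'.valuation K := by
    rw [← val_pl h q, ← val_pl h q', hqq]
  apply HeightOneSpectrum.ext
  ext a
  have h2 := congrArg (fun v : Valuation K ℤᵐ⁰ => v (algebraMap (IC k t) K a)) h1
  simp only [HeightOneSpectrum.valuation_of_algebraMap] at h2
  rw [← Ideal.span_singleton_le_iff_mem, ← Ideal.dvd_iff_le,
    ← HeightOneSpectrum.intValuation_lt_one_iff_dvd, h2,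
    HeightOneSpectrum.intValuation_lt_one_iff_dvd, Ideal.dvd_iff_le,
    Ideal.span_singleton_le_iff_mem]

/-- The valuation of `t - c` at a prime over `(t - c)` is the ramification index. -/
theorem val_lin {t : K} (h : IsSep k K t) (c : k)
    (q : letI := dedekind_IC h; HeightOneSpectrum (IC k t))
    (hq : q.asIdeal.LiesOver (vc h.tr c).asIdeal) :
    letI := dedekind_IC h
    (pl h q).val (t - algebraMap k K c) =
      exp (-(Ideal.ramificationIdx' (vc h.tr c).asIdeal q.asIdeal : ℤ)) := by
  letI := dedekind_R h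
  letI := dedekind_IC h
  letI := frac_IC h
  have h1 := (vc h.tr c).valuation_liesOver K q (K := IntermediateField.adjoin k {t})
    (algebraMap (Algebra.adjoin k {t}) (IntermediateField.adjoin k {t}) (lin t c))
  rw [val_pl]
  have h2 : algebraMap (IntermediateField.adjoin k {t}) K
      (algebraMap (Algebra.adjoin k {t}) (IntermediateField.adjoin k {t}) (lin t c)) =
      t - algebraMap k K c := rfl
  rw [h2] at h1
  rw [← h1, HeightOneSpectrum.valuation_of_algebraMap,
    HeightOneSpectrum.intValuation_singleton (vc h.tr c) (prime_lin h.tr c).ne_zero rfl,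
    ← exp_nsmul]
  congr 1
  simp

theorem inertia_eq_one [IsAlgClosed k] {t : K} (h : IsSep k K t) (c : k)
    (q : letI := dedekind_IC h; HeightOneSpectrum (IC k t))
    (hq : q.asIdeal.LiesOver (vc h.tr c).asIdeal) :
    Ideal.inertiaDeg' (vc h.tr c).asIdeal q.asIdeal = 1 := by
  letI := dedekind_R h
  letI := dedekind_IC h
  letI := frac_IC h
  have := finite_IC h
  have hm : (vc h.tr c).asIdeal.IsMaximal := (vc h.tr c).isMaximal
  have hqm : q.asIdeal.IsMaximal := q.isMaximal
  letI := Ideal.Quotient.field q.asIdeal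
  have hft : Algebra.FiniteType k (Algebra.adjoin k {t}) :=
    (Subalgebra.fg_iff_finiteType _).1 ⟨{t}, by simp⟩
  have hft2 : Algebra.FiniteType k (IC k t) :=
    Algebra.FiniteType.trans (S := Algebra.adjoin k {t}) hft inferInstance
  have hfin : Module.Finite k (IC k t ⧸ q.asIdeal) :=
    finite_of_finite_type_of_isJacobsonRing k (IC k t ⧸ q.asIdeal)
  have hbij : Function.Bijective (algebraMap k (IC k t ⧸ q.asIdeal)) :=
    IsAlgClosed.algebraMap_bijective_of_isIntegral
  rw [Ideal.inertiaDeg'_algebraMap]
  letI := Ideal.Quotient.field (vc h.tr c).asIdeal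
  have hsurj : Function.Surjective
      (algebraMap (Algebra.adjoin k {t} ⧸ (vc h.tr c).asIdeal) (IC k t ⧸ q.asIdeal)) := by
    intro y
    obtain ⟨a, rfl⟩ := hbij.2 y
    refine ⟨algebraMap k _ a, ?_⟩
    rw [← IsScalarTower.algebraMap_apply]
  have e : (Algebra.adjoin k {t} ⧸ (vc h.tr c).asIdeal) ≃ₗ[
      Algebra.adjoin k {t} ⧸ (vc h.tr c).asIdeal] (IC k t ⧸ q.asIdeal) :=
    LinearEquiv.ofBijective (Algebra.linearMap _ _) ⟨RingHom.injective _, hsurj⟩
  rw [← e.finrank_eq, Module.finrank_self]

/-- The prime divisor of `t - c`. -/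
theorem exists_zero_div [IsAlgClosed k] {t : K} (h : IsSep k K t) :
    ∃ D : Place k K →₀ ℤ, 0 ≤ D ∧ (∀ P : Place k K, P.val t < 1 → P.val t = exp (-(D P))) ∧
      (∀ P, D P ≠ 0 → P.val t = exp (-(D P))) ∧
      (crv ⟨t, h⟩).deg D = Module.finrank (IntermediateField.adjoin k {t}) K := by
  classical
  letI := dedekind_R h
  letI := dedekind_IC h
  letI := frac_IC h
  have := finite_IC h
  set p := (vc h.tr 0).asIdeal with hp
  have hm : p.IsMaximal := (vc h.tr 0).isMaximal
  have hpb : p ≠ ⊥ := (vc h.tr 0).ne_bot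
  have hsum := Ideal.sum_ramification_inertia (R := Algebra.adjoin k {t}) (IC k t)
    (IntermediateField.adjoin k {t}) K hpb
  -- the primes over `(t)`
  let S := IsDedekindDomain.primesOverFinset p (IC k t)
  have hS : ∀ Q : Ideal (IC k t), Q ∈ S → Q.IsPrime ∧ Q.LiesOver p := by
    intro Q hQ
    exact (IsDedekindDomain.mem_primesOverFinset_iff hpb _).1 hQ
  have hSb : ∀ Q : Ideal (IC k t), Q ∈ S → Q ≠ ⊥ := by
    intro Q hQ
    have := (hS Q hQ).2
    exact Ideal.ne_bot_of_liesOver_of_ne_bot hpb Q
  let toH : S → HeightOneSpectrum (IC k t) := fun Q => ⟨Q.1, (hS _ Q.2).1, hSb _ Q.2⟩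
  have hval : ∀ Q : S, (pl h (toH Q)).val t = exp (-(Ideal.ramificationIdx' p Q.1 : ℤ)) := by
    intro Q
    have h1 := val_lin h 0 (toH Q) (hS _ Q.2).2
    rw [map_zero, sub_zero] at h1
    exact h1
  have hinj : Function.Injective (fun Q : S => pl h (toH Q)) := by
    intro Q Q' hQ
    have h1 := pl_injective h hQ
    exact Subtype.ext (congrArg HeightOneSpectrum.asIdeal h1)
  let D : Place k K →₀ ℤ :=
    ∑ Q : S, Finsupp.single (pl h (toH Q)) (Ideal.ramificationIdx' p Q.1 : ℤ)
  have hD1 : ∀ Q : S, D (pl h (toH Q)) = Ideal.ramificationIdx' p Q.1 := by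
    intro Q
    simp only [D, Finsupp.coe_finset_sum, Finset.sum_apply]
    rw [Finset.sum_eq_single Q]
    · simp
    · intro Q' _ hQ'
      rw [Finsupp.single_apply, if_neg]
      exact fun h' => hQ' (hinj h')
    · simp
  have hD2 : ∀ P, D P ≠ 0 → ∃ Q : S, pl h (toH Q) = P := by
    intro P hP
    by_contra hcon
    push Not at hcon
    apply hP
    simp only [D, Finsupp.coe_finset_sum, Finset.sum_apply]
    refine Finset.sum_eq_zero fun Q _ => ?_
    rw [Finsupp.single_apply, if_neg (hcon Q)]
  refine ⟨D, ?_, ?_, ?_, ?_⟩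
  · refine Finset.sum_nonneg fun Q _ => ?_
    exact Finsupp.single_nonneg.2 (by positivity)
  · intro P hP
    have htP : t ∈ P.1 := (h.val_le_one_iff P t).1 hP.le
    obtain ⟨q, rfl⟩ := exists_pl h P htP
    have hq : q.asIdeal.LiesOver p := by
      refine ⟨hm.eq_of_le (Ideal.IsPrime.under _ _ |>.ne_top) ?_⟩
      rw [hp]
      change Ideal.span {lin t 0} ≤ _
      rw [Ideal.span_singleton_le_iff_mem, Ideal.under_def, Ideal.mem_comap,
        ← Ideal.span_singleton_le_iff_mem, ← Ideal.dvd_iff_le,
        ← HeightOneSpectrum.intValuation_lt_one_iff_dvd,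
        ← HeightOneSpectrum.valuation_of_algebraMap (K := K)]
      rw [val_pl] at hP
      have h2 : algebraMap (IC k t) K (algebraMap (Algebra.adjoin k {t}) (IC k t) (lin t 0)) =
          t := by
        change t - algebraMap k K 0 = t
        rw [map_zero, sub_zero]
      exact (congrArg (q.valuation K) h2).trans_lt hP
    have hqS : q.asIdeal ∈ S :=
      (IsDedekindDomain.mem_primesOverFinset_iff hpb _).2 ⟨q.isPrime, hq⟩
    have h1 : toH ⟨q.asIdeal, hqS⟩ = q := rfl
    rw [← h1, hval, hD1]
  · intro P hP
    obtain ⟨Q, rfl⟩ := hD2 P hP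
    rw [hval, hD1]
  · rw [← hsum, map_sum]
    push_cast
    rw [← Finset.sum_coe_sort S]
    refine Finset.sum_congr rfl fun Q _ => ?_
    rw [Crv.deg_single, WCPlaceRes.dg0_eq_one]
    have h1 := inertia_eq_one h 0 (toH Q) (hS _ Q.2).2
    change Ideal.inertiaDeg' p Q.1 = 1 at h1
    rw [h1]

attribute [local instance] FractionRing.liftAlgebra FractionRing.isScalarTower_liftAlgebra

/-- There is a place where `t - c` is a uniformizer. -/
theorem exists_unram [IsAlgClosed k] {t : K} (h : IsSep k K t) :
    ∃ (c : k) (P : Place k K), P.val (t - algebraMap k K c) = exp (-1 : ℤ) := by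
  classical
  letI := dedekind_R h
  letI := dedekind_IC h
  letI := frac_IC h
  have := finite_IC h
  have := h.fin
  have := h.sep
  have hsep : Algebra.IsSeparable (FractionRing (Algebra.adjoin k {t}))
      (FractionRing (IC k t)) := by
    refine Algebra.IsSeparable.of_equiv_equiv
      (FractionRing.algEquiv (Algebra.adjoin k {t}) (IntermediateField.adjoin k {t})).symm.toRingEquiv
      (FractionRing.algEquiv (IC k t) K).symm.toRingEquiv ?_
    apply IsLocalization.ringHom_ext (nonZeroDivisors (Algebra.adjoin k {t}))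
    ext
    simp only [RingHom.coe_comp, RingHom.coe_coe,
      AlgEquiv.coe_ringEquiv, Function.comp_apply, AlgEquiv.commutes,
      ← IsScalarTower.algebraMap_apply]
    rw [IsScalarTower.algebraMap_apply (Algebra.adjoin k {t}) (IC k t) K, AlgEquiv.commutes,
      ← IsScalarTower.algebraMap_apply]
  have hne : differentIdeal (Algebra.adjoin k {t}) (IC k t) ≠ 0 := differentIdeal_ne_bot
  have hfin := Ideal.finite_factors hne
  have hex : ∀ c : k, ∃ q : HeightOneSpectrum (IC k t),
      q.asIdeal.LiesOver (vc h.tr c).asIdeal := by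
    intro c
    obtain ⟨⟨Q, hQ1, hQ2⟩⟩ := (vc h.tr c).asIdeal.nonempty_primesOver (S := IC k t)
    exact ⟨⟨Q, hQ1, Ideal.ne_bot_of_liesOver_of_ne_bot (vc h.tr c).ne_bot Q⟩, hQ2⟩
  choose q hq using hex
  have hqinj : Function.Injective q := by
    intro c c' hcc
    by_contra hne
    have h1 : (vc h.tr c).asIdeal = (vc h.tr c').asIdeal := by
      rw [(hq c).over, (hq c').over, hcc]
    have h2 : lin t c ∈ (vc h.tr c').asIdeal := by
      rw [← h1]
      exact Ideal.mem_span_singleton_self _
    have h3 : lin t c' ∈ (vc h.tr c').asIdeal := Ideal.mem_span_singleton_self _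
    have h4 : algebraMap k (Algebra.adjoin k {t}) (c' - c) ∈ (vc h.tr c').asIdeal := by
      have h5 : algebraMap k (Algebra.adjoin k {t}) (c' - c) = lin t c - lin t c' := by
        rw [lin, lin, map_sub]
        ring
      rw [h5]
      exact Ideal.sub_mem _ h2 h3
    exact (vc h.tr c').isPrime.ne_top (Ideal.eq_top_of_isUnit_mem _ h4
      ((IsUnit.mk0 _ (sub_ne_zero.2 (Ne.symm hne))).map _))
  obtain ⟨c, hc⟩ : ∃ c : k, ¬ (q c).asIdeal ∣ differentIdeal (Algebra.adjoin k {t}) (IC k t) := by
    by_contra hcon
    push Not at hcon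
    have : Infinite k := IsAlgClosed.instInfinite
    exact Set.infinite_of_injective_forall_mem hqinj hcon hfin
  refine ⟨c, pl h (q c), ?_⟩
  rw [val_lin h c (q c) (hq c)]
  have hprime := (q c).isPrime
  have hu : Algebra.IsUnramifiedAt (Algebra.adjoin k {t}) (q c).asIdeal :=
    not_dvd_differentIdeal_iff.1 hc
  have h1 := Ideal.ramificationIdx_eq_one_of_isUnramifiedAt (R := Algebra.adjoin k {t})
    (p := (q c).asIdeal)
  have h2 : Ideal.ramificationIdx' (vc h.tr c).asIdeal (q c).asIdeal = 1 := by
    have := hq c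
    rw [Ideal.ramificationIdx'_eq_ramificationIdx _ _ (vc h.tr c).ne_bot, h1]
  rw [h2]
  simp

/-- S11480, NODE PLACE. -/
theorem exists_place (k K : Type u) [Field k] [IsAlgClosed k] [Field K] [Algebra k K] (x : K)
    (hx : IsSep k K x) :
    (∃ (c : k) (P : Place k K), P.val (x - algebraMap k K c) = exp (-1 : ℤ)) ∧
    ∃ D : Place k K →₀ ℤ, 0 ≤ D ∧ (∀ P, P.val x ≤ exp (D P)) ∧
      (∀ P, D P ≠ 0 → P.val x = exp (D P)) ∧
      (crv ⟨x, hx⟩).deg D = Module.finrank (IntermediateField.adjoin k {x}) K := by
  refine ⟨exists_unram hx, ?_⟩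
  obtain ⟨D, h0, h1, h2, h3⟩ := exists_zero_div hx.inv
  have key : ∀ P : Place k K, P.val x⁻¹ = exp (-(D P)) → P.val x = exp (D P) := by
    intro P hP
    rw [map_inv₀, exp_neg, inv_inj] at hP
    exact hP
  refine ⟨D, h0, ?_, fun P hP => key P (h2 P hP), ?_⟩
  · intro P
    by_cases hP : P.val x ≤ 1
    · refine hP.trans ?_
      rw [← exp_zero, exp_le_exp]
      exact h0 P
    · refine (key P (h1 P ?_)).le
      rw [map_inv₀]
      exact inv_lt_one_of_one_lt₀ (not_le.1 hP)
  · rw [adjoin_inv] at h3
    exact h3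

end K363.NodePlace
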