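import Groth.Agent.S11289
import Groth.Agent.S10950
import Groth.Agent.S8734
import Groth.Agent.ProjDual.K274.PnTwist
import Groth.Agent.ProjDual.K274.TensLin
import Groth.Agent.Sga67.TensorOps
import Groth.Agent.CurvesB.OmegaInv
import Groth.Agent.Fga.TwistCoh
import Groth.Agent.Ega3B.ProjTwist
import Groth.Agent.GIT.K686.RigSec
import Groth.Agent.PicLoc.K728.PiN
import Groth.Agent.EssDim.K995.GenusZeroPt
import Groth.Agent.EssDim.K995.P1Curve
import Mathlib.AlgebraicGeometry.AlgClosed.Basic

/-!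
# The projective line is infinitesimally rigid; curves of genus zero over Artinian local rings
-/

set_option autoImplicit false
set_option linter.style.haveILetI false
universe u

open CategoryTheory CategoryTheory.Limits AlgebraicGeometry

namespace K363.RigidP1

/-- `Ext¹(Ω, O) = 0` on the projective line. -/
theorem subsingleton_ext (k : Type u) [Field k] [HasExt.{u} (CohB1.ProjSpace 1 k).Modules] :
    Subsingleton (Abelian.Ext.{u} (Omega.sheaf (CohB1.ProjSpace.toSpec 1 k))
      (Coh.structureModule (CohB1.ProjSpace 1 k)) 1) := by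
  have h1 : Subsingleton (Coh.HH (CohB1.ProjSpace 1 k)
      (CohB1.tensorMod (Omega.sheaf (CohB1.ProjSpace.toSpec 1 k)) (Twist.twistProjSpace 1 k (-2))) 0) :=
    Groth.Agent.S8734.result k 1 le_rfl 1 _ (Groth.Agent.Sga67.TensorOps.isExtPow_one _) (-2) (by norm_num) 0
      (by rintro ⟨-, h⟩; norm_num at h) (by rintro ⟨h, -⟩; exact absurd h (by norm_num))
  have hcoh : Coh.IsCoh (CohB1.tensorMod (Omega.sheaf (CohB1.ProjSpace.toSpec 1 k))
      (Twist.twistProjSpace 1 k (-2))) :=
    Groth.Agent.Fga.TwistCoh.isCoh_tensor (Groth.Agent.CurvesB.OmegaInv.isCoh_omega _)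
      (Groth.Agent.Ega3B.ProjTwist.isInvertible_twistProjSpace 1 k (-2))
  have h2 : Subsingleton (Abelian.Ext.{u} (CohB1.tensorMod (Omega.sheaf (CohB1.ProjSpace.toSpec 1 k))
      (Twist.twistProjSpace 1 k (-2))) (Twist.twistProjSpace 1 k (-2)) 1) := by
    have := (Groth.Agent.S10950.result k 1 _ hcoh 1 le_rfl).2 h1
    simpa using this
  obtain ⟨e⟩ := K274.TensLin.nonempty_extTwist.{u} k (K274.PnTwist.twInv 1 k 2 (-2) (by norm_num))
    (Omega.sheaf (CohB1.ProjSpace.toSpec 1 k)) (Twist.twistProjSpace 1 k (-2)) 1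
  have h3 := e.toEquiv.subsingleton
  let i := K274.PnTwist.twInv 1 k (-2) 2 (by norm_num)
  refine ⟨fun a b => ?_⟩
  have h4 : a.comp (Abelian.Ext.mk₀ i.inv) (add_zero 1) = b.comp (Abelian.Ext.mk₀ i.inv) (add_zero 1) :=
    h3.elim _ _
  have h5 := congrArg (fun z => z.comp (Abelian.Ext.mk₀ i.hom) (add_zero 1)) h4
  simpa using h5

/-- Two morphisms out of a Noetherian scheme which agree on the infinitesimal neighbourhoods of the closed points
are equal. -/
theorem eq_of_trunc_closed {T N : Scheme.{u}} [IsLocallyNoetherian T] [CompactSpace T] (a b : T ⟶ N)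
    (h : ∀ t : T, IsClosed ({t} : Set T) → ∀ n : ℕ, K686.RigSec.tn T t n ≫ a = K686.RigSec.tn T t n ≫ b) :
    a = b := by
  have h1 : ∀ t : T, IsClosed ({t} : Set T) → ∃ U : T.Opens, t ∈ U ∧ U.ι ≫ a = U.ι ≫ b := by
    intro t ht
    apply spread_out_unique_of_isGermInjective'
    apply K686.RigSec.eq_of_trunc
    intro n
    have := h t ht n
    rw [K686.RigSec.tn, Category.assoc, Category.assoc] at this
    exact this
  have h2 : ∀ x : T, ∃ U : T.Opens, x ∈ U ∧ U.ι ≫ a = U.ι ≫ b := by
    intro x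
    obtain ⟨t, hxt, ht⟩ := IsClosed.exists_closed_singleton (isClosed_closure (s := {x}))
      ⟨x, subset_closure rfl⟩
    obtain ⟨U, htU, hU⟩ := h1 t ht
    exact ⟨U, (specializes_iff_mem_closure.2 hxt).mem_open U.2 htU, hU⟩
  choose U hxU hU using h2
  let 𝒰 : T.OpenCover := T.openCoverOfIsOpenCover U
    (TopologicalSpace.IsOpenCover.mk (by
      ext x
      simp only [TopologicalSpace.Opens.coe_iSup, Set.mem_iUnion, SetLike.mem_coe,
        TopologicalSpace.Opens.coe_top, Set.mem_univ, iff_true]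
      exact ⟨x, hxU x⟩))
  exact 𝒰.hom_ext _ _ fun x => hU x

/-- A curve of genus zero over an algebraically closed field is a projective line. -/
theorem exists_iso_P1 {k : Type u} [Field k] [IsAlgClosed k] {C : Scheme.{u}} {p : C ⟶ Spec (CommRingCat.of k)}
    (h : ModFun.IsCurveOfGenus 0 p) : ∃ e : C ≅ CohB1.ProjSpace 1 k, e.hom ≫ CohB1.ProjSpace.toSpec 1 k = p := by
  have hprop : IsProper p := h.2.1
  have hint : IsIntegral C := K995.CurveBasic.isIntegral h
  have : CompactSpace C := QuasiCompact.compactSpace_of_compactSpace p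
  obtain ⟨t, -, ht⟩ := IsClosed.exists_closed_singleton (isClosed_univ (X := C)) Set.univ_nonempty
  exact K995.GenusZeroPt.exists_iso_P1 h (pointOfClosedPoint p t ht) (pointOfClosedPoint_comp p t ht)

/-- A family of curves of genus zero over a local Artinian `k`-algebra with residue field `k` algebraically closed
is constant. -/
theorem exists_iso_artin {k : Type u} [Field k] [IsAlgClosed k] (A : Type u) [CommRing A] [Algebra k A]
    [IsLocalRing A] [IsArtinianRing A] (e : A →ₐ[k] k) {C : Scheme.{u}} (p : C ⟶ Spec (CommRingCat.of A))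
    (h : ModFun.IsCurveOfGenus 0 p) :
    ∃ φ : C ≅ pullback (CohB1.ProjSpace.toSpec 1 k) (Spec.map (CommRingCat.ofHom (algebraMap k A))),
      φ.hom ≫ pullback.snd _ _ = p := by
  have hsm : Smooth p := h.1
  let j := Spec.map (CommRingCat.ofHom e.toRingHom)
  have h0 : ModFun.IsCurveOfGenus 0 (pullback.snd p j) :=
    K995.GenusField.isCurveOfGenus_of_isPullback (IsPullback.of_hasPullback p j) h
  obtain ⟨e₀, he₀⟩ := exists_iso_P1 h0
  let _ : (CohB1.ProjSpace 1 k).Over (Spec (CommRingCat.of k)) := ⟨CohB1.ProjSpace.toSpec 1 k⟩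
  have hC := K995.P1Curve.isCurveOfGenus k
  have : Smooth ((CohB1.ProjSpace 1 k) ↘ (Spec (CommRingCat.of k))) := hC.1
  have : IsProper ((CohB1.ProjSpace 1 k) ↘ (Spec (CommRingCat.of k))) := hC.2.1
  have : IsIntegral (CohB1.ProjSpace 1 k) := K995.CurveBasic.isIntegral hC
  have : HasExt.{u} (CohB1.ProjSpace 1 k).Modules := hasExt_of_enoughInjectives _
  have hpb : IsPullback (e₀.inv ≫ pullback.fst p j) ((CohB1.ProjSpace 1 k) ↘ (Spec (CommRingCat.of k))) p j := by
    refine IsPullback.of_iso_pullback ⟨?_⟩ e₀.symm ?_ ?_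
    · rw [Category.assoc, pullback.condition, ← Category.assoc]
      congr 1
      rw [Iso.inv_comp_eq]
      exact he₀.symm
    · rfl
    · change e₀.inv ≫ pullback.snd p j = CohB1.ProjSpace.toSpec 1 k
      rw [Iso.inv_comp_eq]
      exact he₀.symm
  obtain ⟨φ, h1, -⟩ := (Groth.Agent.S11289.result (k := k) (CohB1.ProjSpace 1 k)).2 (subsingleton_ext k) A e C p
    (e₀.inv ≫ pullback.fst p j) inferInstance hpb
  exact ⟨φ, h1⟩

end K363.RigidP1
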